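import Mathlib.RingTheory.IsTensorProduct

/-! A linear map between two base changes of the same module along a pushout square. -/

universe u

namespace Groth.Agent.AffPBC

open TensorProduct

variable {R B A C M N₁ N₂ : Type u} [CommRing R] [CommRing B] [CommRing A] [CommRing C]
  [Algebra R B] [Algebra R A] [Algebra R C] [Algebra B C] [Algebra A C]
  [IsScalarTower R B C] [IsScalarTower R A C] [Algebra.IsPushout R B A C]
  [AddCommGroup M] [Module R M] [Module A M] [IsScalarTower R A M]
  [AddCommGroup N₁] [Module R N₁] [Module B N₁] [IsScalarTower R B N₁]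
  [AddCommGroup N₂] [Module A N₂] [Module C N₂] [Module B N₂] [IsScalarTower A C N₂] [IsScalarTower B C N₂]

theorem bijective_of_comp {ι₁ : M →ₗ[R] N₁} (h₁ : IsBaseChange B ι₁) {ι₂ : M →ₗ[A] N₂}
    (h₂ : IsBaseChange C ι₂) (u : N₁ → N₂) (hadd : ∀ x y, u (x + y) = u x + u y)
    (hsmul : ∀ (b : B) x, u (b • x) = b • u x) (hu : ∀ m, u (ι₁ m) = ι₂ m) : Function.Bijective u := by
  let e := (Algebra.IsPushout.cancelBaseChange R B A C M).symm
  have key : ∀ z, u (h₁.equiv z) = h₂.equiv (e z) := fun z => by
    induction z using TensorProduct.induction_on with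
    | zero =>
      simp only [map_zero]
      simpa using hsmul 0 0
    | tmul b m =>
      rw [IsBaseChange.equiv_tmul, hsmul, hu]
      simp only [e, Algebra.IsPushout.cancelBaseChange_symm_tmul, IsBaseChange.equiv_tmul, algebraMap_smul]
    | add z z' hz hz' => simp only [map_add, hadd, hz, hz']
  rw [show u = (h₂.equiv ∘ e) ∘ h₁.equiv.symm from funext fun y => by
    rw [Function.comp_apply, Function.comp_apply, ← key, LinearEquiv.apply_symm_apply]]
  exact (h₂.equiv.bijective.comp e.bijective).comp h₁.equiv.symm.bijective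

end Groth.Agent.AffPBC
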